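import Mathlib
import Groth.Prelude.Def_Algz
import Groth.Prelude.Def_Cyc
import Groth.Agent.Lib.CycBasic.DimFun

/-!
# Codimension of points and the distance function to a closed subset
-/

universe u

open CategoryTheory AlgebraicGeometry

namespace GrothLib.DeltaZ

section Top

variable {Y : Type u} [TopologicalSpace Y]

/-- If the generalisations of `v` are an ordered type `P`, then `codimPt` is a coheight in `P`. -/
theorem codimPt_eq_coheight {P : Type*} [Preorder P] {v : Y} (e : P → Y) (he : Function.Injective e)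
    (hle : ∀ a b, a ≤ b ↔ e a ⤳ e b) (hr : ∀ w, (∃ a, e a = w) ↔ w ⤳ v)
    (a : P) (h : e a ⤳ v) : Algz.codimPt (e a) v h = Order.coheight a := by
  let f : Pᵒᵈ → Set.Ici (Specialization.toEquiv v) := fun b =>
    ⟨Specialization.toEquiv (e (OrderDual.ofDual b)),
      Specialization.toEquiv_le_toEquiv.mpr ((hr _).1 ⟨_, rfl⟩)⟩
  have hinj : Function.Injective f := fun b c hbc => he (congrArg (fun z => Specialization.ofEquiv z.1) hbc)
  have hsurj : Function.Surjective f := by
    rintro ⟨w, hw⟩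
    obtain ⟨b, hb⟩ := (hr (Specialization.ofEquiv w)).2 hw
    exact ⟨OrderDual.toDual b, Subtype.ext (congrArg Specialization.toEquiv hb)⟩
  let g : Pᵒᵈ ≃o Set.Ici (Specialization.toEquiv v) :=
    { toEquiv := Equiv.ofBijective f ⟨hinj, hsurj⟩
      map_rel_iff' := fun {b c} => by
        show Specialization.toEquiv (e (OrderDual.ofDual b)) ≤ Specialization.toEquiv (e (OrderDual.ofDual c)) ↔ b ≤ c
        rw [Specialization.toEquiv_le_toEquiv, ← hle]
        rfl }
  rw [← Order.height_toDual, ← Order.height_orderIso g (OrderDual.toDual a)]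
  rfl

theorem codimPt_self {v : Y} (h : v ⤳ v) : Algz.codimPt v v h = 0 :=
  Order.height_eq_zero.2 fun z _ => z.2

theorem one_le_codimPt {w v : Y} (h : w ⤳ v) (hne : ¬ v ⤳ w) : 1 ≤ Algz.codimPt w v h := by
  refine Order.one_le_iff_pos.2 (Order.height_pos.2 fun hmin => hne ?_)
  exact hmin (b := ⟨Specialization.toEquiv v, Set.self_mem_Ici⟩) (Specialization.toEquiv_le_toEquiv.mpr h)

theorem codimPt_eq_one [T0Space Y] {w v : Y} (h : w ⤳ v) (hne : w ≠ v)
    (himm : ∀ z : Y, w ⤳ z → z ⤳ v → z = w ∨ z = v) : Algz.codimPt w v h = 1 := by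
  refine le_antisymm ?_ (one_le_codimPt h fun hvw => hne (h.antisymm hvw).eq)
  refine Order.height_le_coe_iff.2 fun z hz => ?_
  have hz' : Specialization.ofEquiv z.1 = v := by
    refine (himm (Specialization.ofEquiv z.1) hz.le z.2).resolve_left fun hzw => hz.ne (Subtype.ext ?_)
    exact congrArg Specialization.toEquiv hzw
  have h0 : Order.height z = 0 := Order.height_eq_zero.2 fun b _ => by
    show Specialization.ofEquiv b.1 ⤳ Specialization.ofEquiv z.1
    rw [hz']
    exact b.2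
  rw [h0]
  simp

theorem codimPt_mono_right {w v v' : Y} (h : w ⤳ v) (h' : v ⤳ v') :
    Algz.codimPt w v h ≤ Algz.codimPt w v' (h.trans h') :=
  Order.height_le_height_apply_of_strictMono
    (fun z : Set.Ici (Specialization.toEquiv v) => (⟨z.1,
      le_trans (Specialization.toEquiv_le_toEquiv.mpr h') z.2⟩ : Set.Ici (Specialization.toEquiv v')))
    (fun _ _ hab => hab) _

/-- The partial alternating sum of codimensions attached to a system from index `i` on. -/
noncomputable def term {Z : Set Y} {y : Y} {k : ℕ} (S : Algz.DSystem Z y k) (i : Fin (k + 1)) : ℕ∞ :=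
  (∑ j ∈ Finset.univ.filter (fun j : Fin (k + 1) => i ≤ j), S.c j) -
    ∑ j ∈ Finset.univ.filter (fun j : Fin k => i.val ≤ j.val), S.b j

theorem delta_eq {Z : Set Y} {y : Y} {k : ℕ} (S : Algz.DSystem Z y k) :
    S.delta = (k : ℕ∞) + Finset.univ.sup (term S) := rfl

theorem deltaZ_le {Z : Set Y} {y : Y} {k : ℕ} (S : Algz.DSystem Z y k) : Algz.deltaZ Z y ≤ S.delta :=
  iInf₂_le k S

theorem exists_system_of_deltaZ_eq {Z : Set Y} {y : Y} {n : ℕ} (h : Algz.deltaZ Z y = n) :
    ∃ (k : ℕ) (S : Algz.DSystem Z y k), S.delta = n := by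
  by_contra hc
  push Not at hc
  have : ((n + 1 : ℕ) : ℕ∞) ≤ Algz.deltaZ Z y := le_iInf₂ fun k S => by
    have h1 : (n : ℕ∞) ≤ S.delta := h ▸ deltaZ_le S
    rcases h1.lt_or_eq with h2 | h2
    · exact_mod_cast Order.add_one_le_of_lt h2
    · exact absurd h2.symm (hc k S)
  rw [h] at this
  exact absurd (Nat.cast_le.1 this) (by omega)

/-- The system with one pair. -/
def system₀ {Z : Set Y} {y v : Y} (h : y ⤳ v) (hv : v ∈ Z) : Algz.DSystem Z y 0 where
  v _ := v
  w _ := y
  spec _ := h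
  spec_succ i := i.elim0
  start_mem := hv
  last_eq := rfl

theorem delta_system₀ {Z : Set Y} {y v : Y} (h : y ⤳ v) (hv : v ∈ Z) :
    (system₀ h hv).delta = Algz.codimPt y v h := by
  simp [Algz.DSystem.delta, Algz.DSystem.c, system₀]

theorem deltaZ_le_of_specializes_mem {Z : Set Y} {y v : Y} (h : y ⤳ v) (hv : v ∈ Z) :
    Algz.deltaZ Z y ≤ Algz.codimPt y v h :=
  (deltaZ_le (system₀ h hv)).trans (delta_system₀ h hv).le

end Top

section Scheme

variable {Y : Scheme.{u}}

theorem codimPt_eq_coheight_stalk {w v : Y} (h : w ⤳ v) (P : PrimeSpectrum (Y.presheaf.stalk v))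
    (hP : Y.fromSpecStalk v P = w) : Algz.codimPt w v h = Order.coheight P := by
  subst hP
  refine codimPt_eq_coheight (fun Q : PrimeSpectrum (Y.presheaf.stalk v) => Y.fromSpecStalk v Q)
    (Y.fromSpecStalk v).isEmbedding.injective (fun a b => CycBasic.le_iff_specializes) (fun z => ?_) P h
  have := Set.ext_iff.1 (Scheme.range_fromSpecStalk (X := Y) (x := v)) z
  exact this

theorem codimPt_eq_delta {δ : Y → ℤ} (hδ : Cyc.IsDimFun Y δ) {w v : Y} (h : w ⤳ v) :
    Algz.codimPt w v h = ((δ w - δ v).toNat : ℕ∞) := by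
  obtain ⟨P, hP⟩ := CycBasic.exists_fromSpecStalk_eq h
  rw [codimPt_eq_coheight_stalk h P hP]
  refine CycBasic.coheight_eq hδ v _ P ?_
  rw [hP]
  have := CycBasic.delta_le hδ h
  omega

theorem delta_sub_le {δ : Y → ℤ} (hδ : Cyc.IsDimFun Y δ) {Z : Set Y} {y : Y} {k : ℕ}
    (S : Algz.DSystem Z y k) :
    ((δ y - δ (S.v 0)).toNat : ℕ∞) ≤ S.delta := by
  refine le_trans ?_ (add_le_add le_rfl (Finset.le_sup (Finset.mem_univ 0)))
  have hc : ∀ i, S.c i = ((δ (S.w i) - δ (S.v i)).toNat : ℕ∞) := fun i => codimPt_eq_delta hδ (S.spec i)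
  have hb : ∀ i, S.b i = ((δ (S.w i.castSucc) - δ (S.v i.succ)).toNat : ℕ∞) := fun i =>
    codimPt_eq_delta hδ (S.spec_succ i)
  simp only [Fin.val_zero, zero_le, Finset.filter_true, hc, hb]
  rw [← Nat.cast_sum, ← Nat.cast_sum, ← ENat.natCast_sub, ← Nat.cast_add]
  refine Nat.cast_le.2 ?_
  have h1 : ((∑ j : Fin (k + 1), (δ (S.w j) - δ (S.v j)).toNat : ℕ) : ℤ) = ∑ j : Fin (k + 1), (δ (S.w j) - δ (S.v j)) := by
    push_cast
    exact Finset.sum_congr rfl fun j _ => Int.toNat_of_nonneg (sub_nonneg.2 (CycBasic.delta_le hδ (S.spec j)))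
  have h2 : ((∑ j : Fin k, (δ (S.w j.castSucc) - δ (S.v j.succ)).toNat : ℕ) : ℤ) =
      ∑ j : Fin k, (δ (S.w j.castSucc) - δ (S.v j.succ)) := by
    push_cast
    exact Finset.sum_congr rfl fun j _ => Int.toNat_of_nonneg (sub_nonneg.2 (CycBasic.delta_le hδ (S.spec_succ j)))
  rw [Finset.sum_sub_distrib] at h1 h2
  rw [Fin.sum_univ_castSucc (fun j => δ (S.w j)), Fin.sum_univ_succ (fun j => δ (S.v j)), S.last_eq] at h1
  omega

theorem exists_mem_delta_le {δ : Y → ℤ} (hδ : Cyc.IsDimFun Y δ) {Z : Set Y} {y : Y} {n : ℕ}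
    (hn : Algz.deltaZ Z y = n) : ∃ z ∈ Z, δ y ≤ n + δ z := by
  obtain ⟨k, S, hS⟩ := exists_system_of_deltaZ_eq hn
  refine ⟨S.v 0, S.start_mem, ?_⟩
  have := delta_sub_le hδ S
  rw [hS, Nat.cast_le] at this
  omega

end Scheme

end GrothLib.DeltaZ
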