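import Mathlib
import Groth.Agent.Lib.DeltaZ.Basic

/-!
# Manipulating systems computing the distance function
-/

universe u

namespace GrothLib.DeltaZ

variable {Y : Type u} [TopologicalSpace Y] {Z : Set Y} {y y' : Y} {k : ℕ}

theorem codimPt_congr {w w' v v' : Y} (hw : w = w') (hv : v = v') (h : w ⤳ v) (h' : w' ⤳ v') :
    Algz.codimPt w v h = Algz.codimPt w' v' h' := by
  subst hw hv; rfl

/-- Add a trivial pair at a specialisation of the end point. -/
def append (S : Algz.DSystem Z y k) (h : y ⤳ y') : Algz.DSystem Z y' (k + 1) where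
  v := Fin.snoc S.v y'
  w := Fin.snoc S.w y'
  spec i := by
    induction i using Fin.lastCases with
    | last => simp [specializes_refl]
    | cast i => simpa using S.spec i
  spec_succ i := by
    induction i using Fin.lastCases with
    | last =>
      rw [Fin.succ_last, Fin.snoc_last, Fin.snoc_castSucc, S.last_eq]
      exact h
    | cast i =>
      rw [Fin.succ_castSucc, Fin.snoc_castSucc, Fin.snoc_castSucc]
      exact S.spec_succ i
  start_mem := by
    rw [← Fin.castSucc_zero, Fin.snoc_castSucc]
    exact S.start_mem
  last_eq := Fin.snoc_last _ _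

theorem delta_append_le (S : Algz.DSystem Z y k) (h : y ⤳ y') (hne : ¬ y' ⤳ y)
    (hM : 1 ≤ Finset.univ.sup (term S)) : (append S h).delta ≤ S.delta := by
  set M := Finset.univ.sup (term S)
  rw [delta_eq, delta_eq, Nat.cast_add, Nat.cast_one, add_assoc]
  refine add_le_add le_rfl ?_
  calc (1 : ℕ∞) + Finset.univ.sup (term (append S h)) ≤ 1 + (M - 1) := by
        refine add_le_add le_rfl (Finset.sup_le fun i _ => ?_)
        have hc : ∀ j, (append S h).c (Fin.castSucc j) = S.c j := fun j =>
          codimPt_congr (show (Fin.snoc S.w y' : Fin (k + 2) → Y) j.castSucc = S.w j from Fin.snoc_castSucc _ _ _)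
            (show (Fin.snoc S.v y' : Fin (k + 2) → Y) j.castSucc = S.v j from Fin.snoc_castSucc _ _ _) _ _
        have hcl : (append S h).c (Fin.last _) = 0 :=
          (codimPt_congr (show (Fin.snoc S.w y' : Fin (k + 2) → Y) (Fin.last _) = y' from Fin.snoc_last _ _)
            (show (Fin.snoc S.v y' : Fin (k + 2) → Y) (Fin.last _) = y' from Fin.snoc_last _ _) _
            (specializes_refl y')).trans (codimPt_self _)
        have hb : ∀ j, (append S h).b (Fin.castSucc j) = S.b j := fun j =>
          codimPt_congr (show (Fin.snoc S.w y' : Fin (k + 2) → Y) j.castSucc.castSucc = S.w j.castSucc from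
              Fin.snoc_castSucc _ _ _)
            (show (Fin.snoc S.v y' : Fin (k + 2) → Y) j.castSucc.succ = S.v j.succ by
              rw [Fin.succ_castSucc, Fin.snoc_castSucc]) _ _
        have hbl : 1 ≤ (append S h).b (Fin.last _) := by
          refine le_of_le_of_eq (one_le_codimPt h hne) (codimPt_congr ?_ ?_ _ _)
          · show y = (Fin.snoc S.w y' : Fin (k + 2) → Y) _
            rw [Fin.snoc_castSucc, S.last_eq]
          · show y' = (Fin.snoc S.v y' : Fin (k + 2) → Y) _
            rw [Fin.succ_last, Fin.snoc_last]
        induction i using Fin.lastCases with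
        | last =>
          refine (tsub_le_self.trans ?_).trans zero_le
          refine le_of_eq (Finset.sum_eq_zero fun j hj => ?_)
          rw [Finset.mem_filter] at hj
          rw [show j = Fin.last _ from le_antisymm (Fin.le_last _) hj.2]
          exact hcl
        | cast i =>
          refine le_trans ?_ (tsub_le_tsub_right (Finset.le_sup (Finset.mem_univ i)) 1)
          rw [term, term, Finset.sum_filter, Finset.sum_filter, Finset.sum_filter, Finset.sum_filter,
            Fin.sum_univ_castSucc, Fin.sum_univ_castSucc (f := fun j : Fin (k + 1) => if i.castSucc.1 ≤ j.1 then _ else 0),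
            if_pos (Fin.le_last _), hcl, add_zero, Fin.val_castSucc]
          simp only [Fin.castSucc_le_castSucc_iff, Fin.val_castSucc, Fin.val_last, hc, hb,
            if_pos (Nat.lt_succ_iff.1 i.2)]
          rw [tsub_add_eq_tsub_tsub]
          exact tsub_le_tsub_left hbl _
    _ = M := add_tsub_cancel_of_le hM

/-- Move the last pair to a point below its end. -/
def moveLast (S : Algz.DSystem Z y k) (hv : S.v (Fin.last k) ⤳ y') (hZ : k = 0 → y' ∈ Z) :
    Algz.DSystem Z y' k where
  v := Function.update S.v (Fin.last k) y'
  w := Function.update S.w (Fin.last k) y'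
  spec i := by
    rcases eq_or_ne i (Fin.last k) with rfl | hi
    · simp [specializes_refl]
    · simpa [hi] using S.spec i
  spec_succ i := by
    rw [Function.update_of_ne (Fin.castSucc_lt_last i).ne]
    rcases eq_or_ne i.succ (Fin.last k) with hi | hi
    · rw [hi, Function.update_self]
      exact (hi ▸ S.spec_succ i).trans hv
    · rw [Function.update_of_ne hi]
      exact S.spec_succ i
  start_mem := by
    rcases eq_or_ne (0 : Fin (k + 1)) (Fin.last k) with hi | hi
    · rw [hi, Function.update_self]
      exact hZ (by simpa [Fin.ext_iff] using hi.symm)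
    · rw [Function.update_of_ne hi]
      exact S.start_mem
  last_eq := Function.update_self _ _ _

theorem delta_moveLast_le (S : Algz.DSystem Z y k) (hv : S.v (Fin.last k) ⤳ y') (hZ : k = 0 → y' ∈ Z) :
    (moveLast S hv hZ).delta ≤ S.delta := by
  rw [delta_eq, delta_eq]
  refine add_le_add le_rfl (Finset.sup_mono_fun fun i _ => ?_)
  refine tsub_le_tsub (Finset.sum_le_sum fun j _ => ?_) (Finset.sum_le_sum fun j _ => ?_)
  · rcases eq_or_ne j (Fin.last k) with rfl | hj
    · refine le_of_eq_of_le ((codimPt_congr (Function.update_self _ _ _) (Function.update_self _ _ _) _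
        (specializes_refl y')).trans (codimPt_self _)) zero_le
    · exact (codimPt_congr (Function.update_of_ne hj _ _) (Function.update_of_ne hj _ _) _ _).le
  · have hw : (moveLast S hv hZ).w j.castSucc = S.w j.castSucc :=
      Function.update_of_ne (Fin.castSucc_lt_last j).ne _ _
    rcases eq_or_ne j.succ (Fin.last k) with hi | hi
    · refine (codimPt_mono_right (S.spec_succ j) (hi ▸ hv : S.v j.succ ⤳ y')).trans
        (le_of_eq (codimPt_congr hw.symm ?_ _ _))
      show y' = Function.update S.v (Fin.last k) y' j.succ
      rw [hi, Function.update_self]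
    · exact (codimPt_congr hw.symm (Function.update_of_ne hi _ _).symm _ _).le

theorem deltaZ_le_of_specializes (hZ : IsClosed Z) (h : y ⤳ y') (hne : ¬ y' ⤳ y) :
    Algz.deltaZ Z y' ≤ Algz.deltaZ Z y := by
  refine le_iInf₂ fun k S => ?_
  by_cases hM : 1 ≤ Finset.univ.sup (term S)
  · exact (deltaZ_le (append S h)).trans (delta_append_le S h hne hM)
  · have hv : S.v (Fin.last k) ⤳ y := by
      by_contra hv
      refine hM (le_trans ?_ (Finset.le_sup (Finset.mem_univ (Fin.last k))))
      rw [term, show (Finset.univ.filter fun j : Fin (k + 1) => Fin.last k ≤ j) = {Fin.last k} by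
        ext j; simp [Fin.last_le_iff],
        show (Finset.univ.filter fun j : Fin k => (Fin.last k).val ≤ j.val) = ∅ by
          ext j; simp [Fin.val_last],
        Finset.sum_singleton, Finset.sum_empty, tsub_zero]
      have hw : y ⤳ S.v (Fin.last k) := by
        have := S.spec (Fin.last k)
        rwa [S.last_eq] at this
      exact (one_le_codimPt hw hv).trans
        (codimPt_congr S.last_eq.symm rfl _ _).le
    have hk : k = 0 → y' ∈ Z := fun hk => by
      subst hk
      exact (hv.trans h).mem_closed hZ (show S.v (Fin.last 0) ∈ Z from S.start_mem)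
    exact (deltaZ_le _).trans (delta_moveLast_le S (hv.trans h) hk)

/-- The zigzag bound. -/
theorem deltaZ_le_of_zigzag [T0Space Y] (y : Fin (k + 1) → Y) (w : Fin k → Y) (h0 : y 0 ∈ Z)
    (hdown : ∀ i : Fin k, w i ⤳ y i.castSucc ∧ w i ≠ y i.castSucc ∧
      ∀ z : Y, w i ⤳ z → z ⤳ y i.castSucc → z = w i ∨ z = y i.castSucc)
    (hup : ∀ i : Fin k, w i ⤳ y i.succ ∧ w i ≠ y i.succ) :
    Algz.deltaZ Z (y (Fin.last k)) ≤ k := by
  let S : Algz.DSystem Z (y (Fin.last k)) k :=
    { v := y
      w := Fin.snoc w (y (Fin.last k))
      spec := fun i => by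
        induction i using Fin.lastCases with
        | last => simp [specializes_refl]
        | cast i => simpa using (hdown i).1
      spec_succ := fun i => by simpa using (hup i).1
      start_mem := h0
      last_eq := Fin.snoc_last _ _ }
  refine (deltaZ_le S).trans ?_
  rw [delta_eq]
  refine le_of_le_of_eq (add_le_add le_rfl (Finset.sup_le fun i _ => ?_)) (add_zero _)
  refine le_of_eq (tsub_eq_zero_of_le ?_)
  rw [Finset.sum_filter, Finset.sum_filter, Fin.sum_univ_castSucc]
  have hcl : S.c (Fin.last k) = 0 :=
    (codimPt_congr S.last_eq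
      (show S.v (Fin.last k) = y (Fin.last k) from rfl) _ (specializes_refl _)).trans (codimPt_self _)
  rw [hcl, ite_self, add_zero]
  refine Finset.sum_le_sum fun j _ => ?_
  have hcj : S.c j.castSucc = 1 :=
    (codimPt_congr (show S.w j.castSucc = w j by exact Fin.snoc_castSucc (α := fun _ => Y) _ w j)
      (show S.v j.castSucc = y j.castSucc from rfl) _ (hdown j).1).trans
      (codimPt_eq_one (hdown j).1 (hdown j).2.1 (hdown j).2.2)
  have hbj : 1 ≤ S.b j :=
    (one_le_codimPt (hup j).1 fun h => (hup j).2 ((hup j).1.antisymm h).eq).trans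
      (codimPt_congr (show w j = S.w j.castSucc by exact (Fin.snoc_castSucc (α := fun _ => Y) _ w j).symm)
        (show y j.succ = S.v j.succ from rfl) _ _).le
  rw [hcj]
  by_cases h : i ≤ j.castSucc
  · rw [if_pos h, if_pos (show i.val ≤ j.val from h)]
    exact hbj
  · rw [if_neg h]
    exact zero_le

end GrothLib.DeltaZ
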