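import Mathlib
import Groth.Prelude.Def_Found
import Groth.Agent.Lib.DeltaZ.Systems

/-!
# The distance function on schemes
-/

universe u

open CategoryTheory AlgebraicGeometry

namespace GrothLib.DeltaZ

section Top

variable {X Y : Type u} [TopologicalSpace X] [TopologicalSpace Y] {f : X → Y}

theorem codimPt_map (hf : Topology.IsEmbedding f) (hgen : ∀ (a : X) (w : Y), w ⤳ f a → w ∈ Set.range f)
    {w v : X} (h : w ⤳ v) (h' : f w ⤳ f v) : Algz.codimPt (f w) (f v) h' = Algz.codimPt w v h := by
  refine (codimPt_eq_coheight (P := (Set.Ici (Specialization.toEquiv v))ᵒᵈ)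
    (fun a => f (Specialization.ofEquiv (OrderDual.ofDual a).1))
    (fun a b hab => OrderDual.ofDual.injective (Subtype.ext (hf.injective hab)))
    (fun a b => ?_) (fun z => ⟨?_, fun hz => ?_⟩)
    (OrderDual.toDual ⟨Specialization.toEquiv w, Specialization.toEquiv_le_toEquiv.mpr h⟩) h').trans ?_
  · rw [hf.isInducing.specializes_iff]
    rfl
  · rintro ⟨a, rfl⟩
    exact (OrderDual.ofDual a).2.map hf.continuous
  · obtain ⟨z, rfl⟩ := hgen v z hz
    exact ⟨OrderDual.toDual ⟨Specialization.toEquiv z,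
      Specialization.toEquiv_le_toEquiv.mpr (hf.isInducing.specializes_iff.1 hz)⟩, rfl⟩
  · exact Order.coheight_toDual _

theorem deltaZ_map_le (hf : Topology.IsEmbedding f) (hgen : ∀ (a : X) (w : Y), w ⤳ f a → w ∈ Set.range f)
    (Z : Set Y) (x : X) : Algz.deltaZ Z (f x) ≤ Algz.deltaZ (f ⁻¹' Z) x := by
  refine le_iInf₂ fun k S => ?_
  let T : Algz.DSystem Z (f x) k :=
    { v := f ∘ S.v
      w := f ∘ S.w
      spec := fun i => (S.spec i).map hf.continuous
      spec_succ := fun i => (S.spec_succ i).map hf.continuous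
      start_mem := S.start_mem
      last_eq := congrArg f S.last_eq }
  refine (deltaZ_le T).trans (le_of_eq ?_)
  have hc : T.c = S.c := funext fun i => codimPt_map hf hgen (S.spec i) _
  have hb : T.b = S.b := funext fun i => codimPt_map hf hgen (S.spec_succ i) _
  unfold Algz.DSystem.delta
  rw [hc, hb]

end Top

theorem deltaZ_le_ringKrullDim {Y : Scheme.{u}} (Z : Set Y) (y z : Y) (h : y ⤳ z) (hz : z ∈ Z)
    (P : PrimeSpectrum (Y.presheaf.stalk z)) (hP : Y.fromSpecStalk z P = y) :
    ((Algz.deltaZ Z y : ℕ∞) : WithBot ℕ∞) ≤ ringKrullDim (↥(Y.presheaf.stalk z) ⧸ P.asIdeal) := by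
  rw [AffDom.ringKrullDim_quotient_eq_coheight, ← codimPt_eq_coheight_stalk h P hP]
  exact WithBot.coe_le_coe.2 (deltaZ_le_of_specializes_mem h hz)

section Catenary

variable {A : Type u} [CommRing A] [IsNoetherianRing A] [IsLocalRing A]

theorem coheight_ne_top (p : PrimeSpectrum A) : Order.coheight p ≠ ⊤ := by
  intro h
  have h1 := Order.coheight_le_krullDim p
  rw [h] at h1
  have h2 : ringKrullDim A < ⊤ := ringKrullDim_lt_top
  exact absurd (lt_of_le_of_lt h1 h2) (lt_irrefl _)

/-- Longest chains to the closed point are saturated and end there. -/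
theorem exists_saturated_series {p : PrimeSpectrum A} {n : ℕ} (h : Order.coheight p = n) :
    ∃ s : LTSeries (PrimeSpectrum A), s.head = p ∧ s.last = IsLocalRing.closedPoint A ∧ s.length = n ∧
      ∀ i : Fin s.length, s (Fin.castSucc i) ⋖ s (Fin.succ i) := by
  obtain ⟨s, hs, hlen⟩ := Order.exists_series_of_coheight_eq_coe p h
  have hmax : ∀ t : LTSeries (PrimeSpectrum A), t.head = p → t.length ≤ n := fun t ht => by
    have := Order.length_le_coheight (x := p) (p := t) ht.ge
    rw [h] at this
    exact_mod_cast this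
  refine ⟨s, hs, ?_, hlen, fun i => ⟨s.step i, fun r h1 h2 => ?_⟩⟩
  · by_contra hne
    have hlt : s.last < IsLocalRing.closedPoint A :=
      lt_of_le_of_ne (IsLocalRing.le_maximalIdeal s.last.2.ne_top) hne
    have := hmax (s.snoc _ hlt) (by rw [RelSeries.head_snoc]; exact hs)
    rw [RelSeries.snoc_length] at this
    omega
  · have := hmax (s.insertNth i r h1 h2) (by
      rw [← hs]
      show Fin.insertNth (α := fun _ => PrimeSpectrum A) (i.castSucc.succ) r s.toFun 0 = s.toFun 0
      rw [Fin.insertNth_apply_below (Fin.succ_pos _)]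
      rfl)
    have hl : (s.insertNth i r h1 h2).length = s.length + 1 := rfl
    omega

theorem coheight_eq_add_one_of_covBy (hA : CAlg.IsCatenary A) {p q : PrimeSpectrum A} (hpq : p ⋖ q)
    {m : ℕ} (hq : Order.coheight q = m) : Order.coheight p = (m + 1 : ℕ) := by
  obtain ⟨n, hn⟩ := ENat.ne_top_iff_exists.1 (coheight_ne_top p)
  obtain ⟨s, hs1, hs2, hs3, hs4⟩ := exists_saturated_series hn.symm
  obtain ⟨t, ht1, ht2, ht3, ht4⟩ := exists_saturated_series hq
  let u : LTSeries (PrimeSpectrum A) :=
    { length := t.length + 1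
      toFun := Fin.cons p t.toFun
      step := fun i => by
        induction i using Fin.cases with
        | zero =>
          show p < t.toFun 0
          rw [show t.toFun 0 = q from ht1]
          exact hpq.lt
        | succ j => exact t.step j }
  have key := hA.2 s u hs1 (hs2.trans ht2.symm) hs4 (fun i => by
    induction i using Fin.cases with
    | zero =>
      show p ⋖ t.toFun 0
      rw [show t.toFun 0 = q from ht1]
      exact hpq
    | succ j => exact ht4 j)
  have hu : u.length = t.length + 1 := rfl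
  rw [hu, hs3, ht3] at key
  rw [← hn, key]

theorem exists_isDimFun (hA : CAlg.IsCatenary A) :
    ∃ δ : Spec (CommRingCat.of A) → ℤ, Cyc.IsDimFun (Spec (CommRingCat.of A)) δ ∧
      δ (IsLocalRing.closedPoint A) = 0 ∧
      ∀ P : PrimeSpectrum A, ∃ n : ℕ, Order.coheight P = n ∧ δ P = n := by
  have hfin : ∀ P : PrimeSpectrum A, ∃ n : ℕ, Order.coheight P = n := fun P => by
    obtain ⟨n, hn⟩ := ENat.ne_top_iff_exists.1 (coheight_ne_top P)
    exact ⟨n, hn.symm⟩
  choose d hd using hfin
  have key : ∀ x y : PrimeSpectrum A, x ⤳ y → x ≠ y → (d y : ℤ) < d x ∧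
      ((∀ z : PrimeSpectrum A, x ⤳ z → z ⤳ y → z = x ∨ z = y) → (d x : ℤ) = d y + 1) := by
    intro x y hxy hne
    have hlt : x < y := lt_of_le_of_ne ((PrimeSpectrum.le_iff_specializes x y).2 hxy) hne
    refine ⟨?_, fun himm => ?_⟩
    · have := Order.coheight_add_one_le hlt
      rw [hd, hd, ← Nat.cast_one, ← Nat.cast_add, Nat.cast_le] at this
      exact_mod_cast this
    · have hcov : x ⋖ y := ⟨hlt, fun z hz1 hz2 => by
        rcases himm z ((PrimeSpectrum.le_iff_specializes x z).1 hz1.le)
          ((PrimeSpectrum.le_iff_specializes z y).1 hz2.le) with h | h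
        · exact hz1.ne h.symm
        · exact hz2.ne h⟩
      have := coheight_eq_add_one_of_covBy hA hcov (hd y)
      rw [hd, Nat.cast_inj] at this
      exact_mod_cast this
  have h0 : d (IsLocalRing.closedPoint A) = 0 := by
    have h0 : Order.coheight (IsLocalRing.closedPoint A) = 0 :=
      Order.coheight_eq_zero.2 fun z _ => IsLocalRing.le_maximalIdeal z.2.ne_top
    rw [hd] at h0
    exact_mod_cast h0
  refine ⟨fun P => (d P : ℤ), fun x y hxy hne => key x y hxy hne, ?_, fun P => ⟨d P, hd P, rfl⟩⟩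
  show (d (IsLocalRing.closedPoint A) : ℤ) = 0
  rw [h0, Nat.cast_zero]

theorem deltaZ_closedPoint (hA : CAlg.IsCatenary A) (y : Spec (CommRingCat.of A)) :
    ((Algz.deltaZ ({IsLocalRing.closedPoint A} : Set (Spec (CommRingCat.of A))) y : ℕ∞) : WithBot ℕ∞) =
      ringKrullDim (A ⧸ y.asIdeal) := by
  obtain ⟨δ, hδ, h0, hP⟩ := exists_isDimFun hA
  obtain ⟨n, hn, hδy⟩ := hP y
  have hy : y ⤳ (IsLocalRing.closedPoint A : Spec (CommRingCat.of A)) :=
    (PrimeSpectrum.le_iff_specializes (y : PrimeSpectrum A) _).1 (IsLocalRing.le_maximalIdeal y.2.ne_top)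
  refine Eq.trans ?_ (AffDom.ringKrullDim_quotient_eq_coheight (y : PrimeSpectrum A)).symm
  rw [hn]
  congr 1
  refine le_antisymm ?_ (le_iInf₂ fun k S => ?_)
  · refine (deltaZ_le_of_specializes_mem hy (Set.mem_singleton _)).trans (le_of_eq ?_)
    rw [codimPt_eq_delta hδ, h0, hδy, sub_zero, Int.toNat_natCast]
  · have := delta_sub_le hδ S
    rw [show S.v 0 = IsLocalRing.closedPoint A from S.start_mem, h0, hδy, sub_zero, Int.toNat_natCast] at this
    exact this

end Catenary

end GrothLib.DeltaZ
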